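import Groth.Agent.H25.Node.Branches
import Groth.Agent.Lib.LocalFlat.Criterion
import Groth.Agent.Lib.Unram.AtPrime
import Groth.Agent.Lib.NodeModel.Field

/-!
# Nodes with two smooth branches
-/

set_option autoImplicit false
universe u

open IsLocalRing TensorProduct
open Groth.Agent.H25.Node

namespace Groth.Agent.Lib.SSComp98.Algebra

section node

variable {O : Type u} [CommRing O] [IsLocalRing O]

theorem pow_not_mem (hlen : HasLengths O) {x y : O} (hxy : Ideal.span {x, y} = maximalIdeal O)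
    (h3 : x * y ∈ maximalIdeal O ^ 3) (n : ℕ) : x ^ (n + 1) ∉ maximalIdeal O ^ (n + 2) := by
  intro hx
  have hfull : maximalIdeal O ^ (n + 1) ≤
      Ideal.span (Set.range ![y ^ (n + 1)]) ⊔ maximalIdeal O ^ (n + 2) := by
    refine (pow_le_of_mid hxy h3 n).trans (sup_le ?_ le_sup_right)
    rw [Ideal.span_le]
    rintro _ ⟨i, rfl⟩
    fin_cases i
    · exact Ideal.mem_sup_right hx
    · exact Ideal.mem_sup_left (Ideal.subset_span ⟨0, rfl⟩)
  have := length_succ_le ![y ^ (n + 1)] (fun i => by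
    fin_cases i; exact Ideal.pow_mem_pow (mem_right hxy) (n + 1)) hfull
  rw [hlen (n + 1), hlen n] at this
  norm_cast at this
  omega

theorem not_mem_sq (hlen : HasLengths O) {x y : O} (hxy : Ideal.span {x, y} = maximalIdeal O) :
    x ∉ maximalIdeal O ^ 2 := fun hx => one_notMem _ (HasLengths.coeff_mem hlen hxy (α := 1) (β := 0)
      (by simpa using hx)).1
where
  one_notMem (I : Ideal O) [I.IsPrime] : (1 : O) ∉ I := fun h => Ideal.IsPrime.ne_top ‹_› (I.eq_top_of_isUnit_mem h isUnit_one)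

variable [IsNoetherianRing O]

/-- Two elements of the maximal ideal which are independent modulo its square generate it. -/
theorem span_pair (h : IsNodal O) {p q : O} (hp : p ∈ maximalIdeal O) (hp2 : p ∉ maximalIdeal O ^ 2)
    (hq : q ∈ maximalIdeal O) (hq2 : q ∉ Ideal.span {p} ⊔ maximalIdeal O ^ 2) :
    Ideal.span {p, q} = maximalIdeal O := by
  obtain ⟨x, y, hxy, -⟩ := h.exists_rel
  obtain ⟨α, β, hαβ⟩ := Ideal.mem_span_pair.1 (hxy.ge hp)
  obtain ⟨γ, δ, hγδ⟩ := Ideal.mem_span_pair.1 (hxy.ge hq)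
  have hd : IsUnit (α * δ - β * γ) := by
    by_contra hd
    have hd' : α * δ - β * γ ∈ maximalIdeal O := hd
    have hne : ¬ (α ∈ maximalIdeal O ∧ β ∈ maximalIdeal O) := fun hc => hp2 (by
      rw [← hαβ, pow_two]
      exact add_mem (Ideal.mul_mem_mul hc.1 (mem_left hxy)) (Ideal.mul_mem_mul hc.2 (mem_right hxy)))
    have h1 : α * q - γ * p ∈ maximalIdeal O ^ 2 := by
      rw [show α * q - γ * p = (α * δ - β * γ) * y by rw [← hαβ, ← hγδ]; ring, pow_two]
      exact Ideal.mul_mem_mul hd' (mem_right hxy)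
    have h2 : δ * p - β * q ∈ maximalIdeal O ^ 2 := by
      rw [show δ * p - β * q = (α * δ - β * γ) * x by rw [← hαβ, ← hγδ]; ring, pow_two]
      exact Ideal.mul_mem_mul hd' (mem_left hxy)
    by_cases ha : α ∈ maximalIdeal O
    · obtain ⟨e, he⟩ := (show IsUnit β from by_contra fun hb => hne ⟨ha, hb⟩).exists_left_inv
      refine hq2 ?_
      rw [show q = (e * δ) * p + (-e) * (δ * p - β * q) by linear_combination (-q) * he]
      exact add_mem (Ideal.mem_sup_left (Ideal.mul_mem_left _ _ (Ideal.mem_span_singleton_self p)))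
        (Ideal.mem_sup_right (Ideal.mul_mem_left _ _ h2))
    · obtain ⟨e, he⟩ := (show IsUnit α from by_contra fun hb => ha hb).exists_left_inv
      refine hq2 ?_
      rw [show q = (e * γ) * p + e * (α * q - γ * p) by linear_combination (-q) * he]
      exact add_mem (Ideal.mem_sup_left (Ideal.mul_mem_left _ _ (Ideal.mem_span_singleton_self p)))
        (Ideal.mem_sup_right (Ideal.mul_mem_left _ _ h1))
  refine le_antisymm (Ideal.span_le.2 (Set.pair_subset hp hq)) ?_
  obtain ⟨e, he⟩ := hd.exists_left_inv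
  rw [← hxy, Ideal.span_le, Set.insert_subset_iff, Set.singleton_subset_iff]
  refine ⟨Ideal.mem_span_pair.2 ⟨e * δ, -(e * β), ?_⟩, Ideal.mem_span_pair.2 ⟨-(e * γ), e * α, ?_⟩⟩
  · rw [← hαβ, ← hγδ]; linear_combination x * he
  · rw [← hαβ, ← hγδ]; linear_combination y * he

theorem eq_top_of_le_sq {I : Ideal O} (h : maximalIdeal O ≤ I ⊔ maximalIdeal O ^ 2) :
    maximalIdeal O ≤ I :=
  Submodule.le_of_le_smul_of_le_jacobson_bot (IsNoetherian.noetherian _)
    (maximalIdeal_le_jacobson _) (by rwa [Ideal.smul_eq_mul, ← pow_two])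

/-- A minimal prime whose quotient has principal maximal ideal is generated by one parameter. -/
theorem branch (h : IsNodal O) (P : Ideal O) [P.IsPrime] (hPm : P ≠ maximalIdeal O) (s : O)
    (hs : P ⊔ Ideal.span {s} = maximalIdeal O) :
    ∃ v, Ideal.span {v} = P ∧ v ∉ maximalIdeal O ^ 2 ∧ Ideal.span {v, s} = maximalIdeal O := by
  have hP : P ≤ maximalIdeal O := le_maximalIdeal (Ideal.IsPrime.ne_top ‹_›)
  have hsm : s ∈ maximalIdeal O := hs.le (Ideal.mem_sup_right (Ideal.mem_span_singleton_self s))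
  have hsP : s ∉ P := fun hc => hPm (by rw [← hs, sup_eq_left.2 ((Ideal.span_singleton_le_iff_mem _).2 hc)])
  have hs2 : s ∉ maximalIdeal O ^ 2 := fun hc => hPm (le_antisymm hP (eq_top_of_le_sq (hs.ge.trans
    (sup_le le_sup_left ((Ideal.span_singleton_le_iff_mem _).2 (Ideal.mem_sup_right hc))))))
  obtain ⟨v, hvP, hv⟩ : ∃ v ∈ P, v ∉ Ideal.span {s} ⊔ maximalIdeal O ^ 2 := by
    by_contra hc
    push Not at hc
    obtain ⟨x, y, hxy, -⟩ := h.exists_rel
    have hle : maximalIdeal O ≤ Ideal.span {s} := eq_top_of_le_sq (hs.ge.trans (sup_le hc le_sup_left))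
    obtain ⟨a, ha⟩ := Ideal.mem_span_singleton'.1 (hle (mem_left hxy))
    obtain ⟨b, hb⟩ := Ideal.mem_span_singleton'.1 (hle (mem_right hxy))
    have h1 := HasLengths.coeff_mem h.length hxy (α := b) (β := -a)
      (by rw [show b * x + -a * y = 0 by rw [← ha, ← hb]; ring]; exact zero_mem _)
    refine not_mem_sq h.length hxy ?_
    rw [← ha, pow_two]
    exact Ideal.mul_mem_mul (neg_mem_iff.1 h1.2) hsm
  have hspan := span_pair h hsm hs2 (hP hvP) hv
  refine ⟨v, ?_, fun hc => hv (Ideal.mem_sup_right hc), by rw [Set.pair_comm]; exact hspan⟩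
  refine le_antisymm ((Ideal.span_singleton_le_iff_mem _).2 hvP) ?_
  refine Submodule.le_of_le_smul_of_le_jacobson_bot (IsNoetherian.noetherian _)
    (maximalIdeal_le_jacobson _) fun p hp => ?_
  obtain ⟨c, d, hcd⟩ := Ideal.mem_span_pair.1 (hspan.ge (hP hp))
  have hc : c ∈ P := (‹P.IsPrime›.mem_or_mem (by
    rw [show c * s = p - d * v by rw [← hcd]; ring]
    exact sub_mem hp (Ideal.mul_mem_left _ _ hvP))).resolve_right hsP
  rw [← hcd, add_comm]
  refine add_mem (Ideal.mem_sup_left (Ideal.mul_mem_left _ _ (Ideal.mem_span_singleton_self v)))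
    (Ideal.mem_sup_right ?_)
  rw [Ideal.smul_eq_mul, mul_comm c]
  exact Ideal.mul_mem_mul hsm hc

omit [IsNoetherianRing O] in
theorem coeff_zero {P : Ideal O} [P.IsPrime] {v u : O} (hv : v ∈ P) (hu : u ∉ P)
    (hspan : Ideal.span {v, u} = maximalIdeal O) {a z : O} (hz : z - a * u ^ 2 ∈ P)
    (hz3 : z ∈ maximalIdeal O ^ 3) : a ∈ maximalIdeal O := by
  have hle : maximalIdeal O ^ 3 ≤ P ⊔ Ideal.span {u ^ 3} := by
    rw [← hspan, ← Ideal.span_singleton_pow]
    refine le_trans ?_ (show (Ideal.span {v} ⊔ Ideal.span {u}) ^ 3 ≤ P ⊔ Ideal.span {u} ^ 3 from ?_)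
    · rw [← Ideal.span_union, Set.singleton_union]
    · have hvP : Ideal.span {v} ≤ P := (Ideal.span_singleton_le_iff_mem _).2 hv
      have hm : ∀ I J : Ideal O, (P ⊔ I) * (P ⊔ J) ≤ P ⊔ I * J := fun I J => by
        rw [Ideal.sup_mul, Ideal.mul_sup I]
        exact sup_le (Ideal.mul_le_inf.trans (inf_le_left.trans le_sup_left))
          (sup_le (Ideal.mul_le_inf.trans (inf_le_right.trans le_sup_left)) le_sup_right)
      calc (Ideal.span {v} ⊔ Ideal.span {u}) ^ 3 ≤ (P ⊔ Ideal.span {u}) ^ 3 := by gcongr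
        _ ≤ (P ⊔ Ideal.span {u} * Ideal.span {u}) * (P ⊔ Ideal.span {u}) := by
          rw [pow_succ, pow_two]; exact Ideal.mul_mono_left (hm _ _)
        _ ≤ P ⊔ Ideal.span {u} ^ 3 := by
          rw [pow_succ (Ideal.span {u}) 2, pow_two]; exact hm _ _
  obtain ⟨p, hp, r, hr, hpr⟩ := Submodule.mem_sup.1 (hle hz3)
  obtain ⟨c, rfl⟩ := Ideal.mem_span_singleton'.1 hr
  have h1 : (a - c * u) * u ^ 2 ∈ P := by
    rw [show (a - c * u) * u ^ 2 = p - (z - a * u ^ 2) by rw [← hpr]; ring]
    exact sub_mem hp hz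
  have h2 := (‹P.IsPrime›.mem_or_mem h1).resolve_right fun h => hu (‹P.IsPrime›.mem_of_pow_mem 2 h)
  have h3 : c * u ∈ maximalIdeal O :=
    Ideal.mul_mem_left _ _ (hspan.le (Ideal.subset_span (by simp)))
  have := add_mem (le_maximalIdeal (Ideal.IsPrime.ne_top ‹_›) h2) h3
  rwa [sub_add_cancel] at this

/-- A node all of whose branches are smooth is split. -/
theorem exists_isSplit (h : IsNodal O)
    (hP : ∀ P ∈ minimalPrimes O, P ≠ maximalIdeal O ∧ ∃ s, P ⊔ Ideal.span {s} = maximalIdeal O) :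
    ∃ s t : O, Branches.IsSplit s t := by
  classical
  obtain ⟨P, hPmin, -⟩ := Ideal.exists_minimalPrimes_le (I := (⊥ : Ideal O)) (J := maximalIdeal O) bot_le
  have : P.IsPrime := hPmin.1.1
  obtain ⟨s₀, hs₀⟩ := (hP P hPmin).2
  obtain ⟨v, rfl, hv2, hvu⟩ := branch h P (hP P hPmin).1 s₀ hs₀
  obtain ⟨u, hvu⟩ : ∃ u, Ideal.span {v, u} = maximalIdeal O := ⟨_, hvu⟩
  have hu : u ∉ Ideal.span {v} := fun hc => (hP _ hPmin).1 (by
    rw [← hvu, Ideal.span_pair_comm]
    exact le_antisymm (Ideal.span_mono (by simp)) (Ideal.span_le.2 (Set.pair_subset hc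
      (Ideal.mem_span_singleton_self v))))
  -- a relation `v w ∈ m³`
  obtain ⟨q, hq, hq0⟩ := (HasLengths.exists_unique_rel h.length hvu).1
  have hqd := h.isUnit_disc hvu hq hq0
  simp only [quad] at hq
  have hq2 : q 2 ∈ maximalIdeal O := coeff_zero (Ideal.mem_span_singleton_self v) hu hvu
    (a := q 2) (by
      rw [show q 0 * v ^ 2 + q 1 * (v * u) + q 2 * u ^ 2 - q 2 * u ^ 2 =
        (q 0 * v + q 1 * u) * v by ring]
      exact Ideal.mul_mem_left _ _ (Ideal.mem_span_singleton_self v)) hq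
  have hvm := mem_left hvu
  have hum := mem_right hvu
  have hq1 : IsUnit (q 1) := by
    by_contra hc
    refine (show ¬ (disc q ∈ maximalIdeal O) from fun h' => h' hqd) ?_
    rw [disc, pow_two]
    exact sub_mem (Ideal.mul_mem_left _ _ hq2) (Ideal.mul_mem_left _ _ hc)
  let w := q 0 * v + q 1 * u
  have hvw3 : v * w ∈ maximalIdeal O ^ 3 := by
    rw [show v * w = (q 0 * v ^ 2 + q 1 * (v * u) + q 2 * u ^ 2) - q 2 * u ^ 2 by simp only [w]; ring]
    refine sub_mem hq ?_
    rw [pow_succ' (maximalIdeal O) 2]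
    exact Ideal.mul_mem_mul hq2 (Ideal.pow_mem_pow hum 2)
  have hvw : Ideal.span {v, w} = maximalIdeal O := by
    refine le_antisymm (Ideal.span_le.2 (Set.pair_subset hvm
      (add_mem (Ideal.mul_mem_left _ _ hvm) (Ideal.mul_mem_left _ _ hum)))) ?_
    obtain ⟨e, he⟩ := hq1.exists_left_inv
    rw [← hvu, Ideal.span_le, Set.insert_subset_iff, Set.singleton_subset_iff]
    exact ⟨Ideal.subset_span (by simp), Ideal.mem_span_pair.2
      ⟨-(e * q 0), e, by simp only [w]; linear_combination u * he⟩⟩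
  -- another branch
  obtain ⟨Q, hQ, t, htQ, ht2, t', ht't, ht⟩ : ∃ Q ∈ minimalPrimes O, ∃ t, Ideal.span {t} = Q ∧
      t ∉ maximalIdeal O ^ 2 ∧ ∃ t', Ideal.span {t, t'} = maximalIdeal O ∧
        t ∉ Ideal.span {v} ⊔ maximalIdeal O ^ 2 := by
    by_contra hc
    push Not at hc
    have hfin := minimalPrimes.finite_of_isNoetherianRing O
    have hc' : ∀ Q : minimalPrimes O, ∃ t : O, t ∈ Q.1 ∧ t - v ∈ maximalIdeal O ^ 2 := fun ⟨Q, hQ⟩ => by
      have : Q.IsPrime := hQ.1.1
      obtain ⟨s, hs⟩ := (hP Q hQ).2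
      obtain ⟨t, htQ, ht2, ht't⟩ := branch h Q (hP Q hQ).1 s hs
      obtain ⟨a, ha, b, hb, hab⟩ := Submodule.mem_sup.1 (hc Q hQ t htQ ht2 s ht't)
      obtain ⟨l, rfl⟩ := Ideal.mem_span_singleton'.1 ha
      have hl : IsUnit l := by
        by_contra hl
        refine ht2 (hab ▸ add_mem ?_ hb)
        rw [pow_two]
        exact Ideal.mul_mem_mul hl hvm
      obtain ⟨e, he⟩ := hl.exists_left_inv
      refine ⟨e * t, (htQ.le (Ideal.mul_mem_left _ _ (Ideal.mem_span_singleton_self t)) : e * t ∈ Q), ?_⟩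
      rw [show e * t - v = e * b by rw [← hab]; linear_combination v * he]
      exact Ideal.mul_mem_left _ _ hb
    choose f hfQ hf using hc'
    have : Fintype (minimalPrimes O) := hfin.fintype
    have hnil : IsNilpotent (∏ Q, f Q) := by
      rw [nilpotent_iff_mem_prime]
      intro J hJ
      obtain ⟨Q, hQ, hQJ⟩ := Ideal.exists_minimalPrimes_le (I := (⊥ : Ideal O)) (J := J) bot_le
      exact hQJ (Q.mem_of_dvd (Finset.dvd_prod_of_mem f (Finset.mem_univ (⟨Q, hQ⟩ : minimalPrimes O))) (hfQ ⟨Q, hQ⟩))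
    have hprod : ∀ S : Finset (minimalPrimes O),
        (∏ Q ∈ S, f Q) - v ^ S.card ∈ maximalIdeal O ^ (S.card + 1) := by
      intro S
      induction S using Finset.induction_on with
      | empty => simp
      | @insert Q S hQS ih =>
        rw [Finset.prod_insert hQS, Finset.card_insert_of_notMem hQS,
          show f Q * ∏ Q ∈ S, f Q - v ^ (S.card + 1) =
            (f Q - v) * v ^ S.card + f Q * ((∏ Q ∈ S, f Q) - v ^ S.card) by ring]
        refine add_mem ?_ ?_
        · rw [show S.card + 1 + 1 = 2 + S.card by ring, pow_add]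
          exact Ideal.mul_mem_mul (hf Q) (Ideal.pow_mem_pow hvm _)
        · rw [pow_succ' _ (S.card + 1)]
          have : Q.1.IsPrime := Q.2.1.1
          exact Ideal.mul_mem_mul (le_maximalIdeal (Ideal.IsPrime.ne_top ‹_›) (hfQ Q)) ih
    obtain ⟨N, hN⟩ := hnil
    have hp := hprod Finset.univ
    generalize hM : (Finset.univ : Finset (minimalPrimes O)).card = M at hp
    have key : ∀ j, (∏ Q, f Q) ^ j - v ^ (M * j) ∈ maximalIdeal O ^ (M * j + 1) := fun j => by
      induction j with
      | zero => simp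
      | succ j ih =>
        rw [show (∏ Q, f Q) ^ (j + 1) - v ^ (M * (j + 1)) =
          ((∏ Q, f Q) ^ j - v ^ (M * j)) * (∏ Q, f Q) + v ^ (M * j) * ((∏ Q, f Q) - v ^ M) by ring]
        refine add_mem ?_ ?_
        · rw [show M * (j + 1) + 1 = (M * j + 1) + M by ring, pow_add]
          refine Ideal.mul_mem_mul ih ?_
          rw [show ∏ Q, f Q = ((∏ Q, f Q) - v ^ M) + v ^ M by ring]
          exact add_mem (Ideal.pow_le_pow_right (Nat.le_succ M) hp) (Ideal.pow_mem_pow hvm _)
        · rw [show M * (j + 1) + 1 = M * j + (M + 1) by ring, pow_add (maximalIdeal O)]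
          exact Ideal.mul_mem_mul (Ideal.pow_mem_pow hvm _) hp
    have hMN : M * (N + 1) ≠ 0 := by
      have : Nonempty (minimalPrimes O) := ⟨⟨_, hPmin⟩⟩
      rw [← hM, Finset.card_univ]
      positivity
    obtain ⟨m, hm⟩ := Nat.exists_eq_succ_of_ne_zero hMN
    have := key (N + 1)
    rw [pow_succ _ N, hN, zero_mul, zero_sub, neg_mem_iff, hm] at this
    exact pow_not_mem h.length hvw hvw3 m this
  replace hQ : Ideal.span {t} ∈ minimalPrimes O := by rw [htQ]; exact hQ
  have : (Ideal.span {t}).IsPrime := hQ.1.1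
  have htm : t ∈ maximalIdeal O := mem_left ht't
  have hvt : Ideal.span {v, t} = maximalIdeal O := span_pair h hvm hv2 htm ht
  have hne : Ideal.span {t} ≠ Ideal.span {v} := fun e =>
    ht (Ideal.mem_sup_left (e ▸ Ideal.mem_span_singleton_self t))
  have htv : t ∉ Ideal.span {v} := fun hc =>
    ht (Ideal.mem_sup_left hc)
  have hvt' : v ∉ Ideal.span {t} := fun hc => hne (le_antisymm
    (hQ.2 hPmin.1 ((Ideal.span_singleton_le_iff_mem _).2 hc))
    ((Ideal.span_singleton_le_iff_mem _).2 hc))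
  obtain ⟨p, hp, hp0⟩ := (HasLengths.exists_unique_rel h.length hvt).1
  have hpd := h.isUnit_disc hvt hp hp0
  simp only [quad] at hp
  have hp2 : p 2 ∈ maximalIdeal O := coeff_zero (Ideal.mem_span_singleton_self v) htv hvt
    (a := p 2) (by
      rw [show p 0 * v ^ 2 + p 1 * (v * t) + p 2 * t ^ 2 - p 2 * t ^ 2 =
        (p 0 * v + p 1 * t) * v by ring]
      exact Ideal.mul_mem_left _ _ (Ideal.mem_span_singleton_self v)) hp
  have hp00 : p 0 ∈ maximalIdeal O := coeff_zero (Ideal.mem_span_singleton_self t) hvt'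
    (by rw [Ideal.span_pair_comm]; exact hvt) (a := p 0) (by
      rw [show p 0 * v ^ 2 + p 1 * (v * t) + p 2 * t ^ 2 - p 0 * v ^ 2 =
        (p 1 * v + p 2 * t) * t by ring]
      exact Ideal.mul_mem_left _ _ (Ideal.mem_span_singleton_self t)) hp
  have hp1 : IsUnit (p 1) := by
    by_contra hc
    refine (show ¬ (disc p ∈ maximalIdeal O) from fun h' => h' hpd) ?_
    rw [disc, pow_two]
    exact sub_mem (Ideal.mul_mem_left _ _ hp2) (Ideal.mul_mem_left _ _ hc)
  have h3 : v * t ∈ maximalIdeal O ^ 3 := by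
    obtain ⟨e, he⟩ := hp1.exists_left_inv
    rw [show v * t = e * ((p 0 * v ^ 2 + p 1 * (v * t) + p 2 * t ^ 2) - p 0 * v ^ 2 - p 2 * t ^ 2) by
      linear_combination (-(v * t)) * he, pow_succ' (maximalIdeal O) 2]
    refine Ideal.mul_mem_left _ _ (sub_mem (sub_mem ?_ ?_) ?_)
    · rwa [← pow_succ']
    · exact Ideal.mul_mem_mul hp00 (Ideal.pow_mem_pow hvm 2)
    · exact Ideal.mul_mem_mul hp2 (Ideal.pow_mem_pow htm 2)
  have hpow : maximalIdeal O ^ 3 ≤ Ideal.span (Set.range ![v ^ 3, t ^ 3]) :=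
    Submodule.le_of_le_smul_of_le_jacobson_bot (IsNoetherian.noetherian _)
      (maximalIdeal_le_jacobson _) (by
        rw [Ideal.smul_eq_mul, ← pow_succ']
        exact pow_le_of_mid hvt h3 2)
  obtain ⟨c, hc⟩ := (Submodule.mem_span_range_iff_exists_fun O).1 (hpow h3)
  simp only [Fin.sum_univ_two, Matrix.cons_val_zero, Matrix.cons_val_one, smul_eq_mul] at hc
  obtain ⟨c0, hc0⟩ : ∃ c0, c0 * t = c 0 := Ideal.mem_span_singleton'.1
    (((inferInstance : (Ideal.span {t}).IsPrime).mem_or_mem (show c 0 * v ^ 3 ∈ Ideal.span {t} from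
      Ideal.mem_span_singleton'.2 ⟨v - c 1 * t ^ 2, by linear_combination (-1 : O) * hc⟩)).resolve_right
      fun h' => hvt' ((inferInstance : (Ideal.span {t}).IsPrime).mem_of_pow_mem 3 h'))
  obtain ⟨c1, hc1⟩ : ∃ c1, c1 * v = c 1 := Ideal.mem_span_singleton'.1
    (((inferInstance : (Ideal.span {v}).IsPrime).mem_or_mem (show c 1 * t ^ 3 ∈ Ideal.span {v} from
      Ideal.mem_span_singleton'.2 ⟨t - c 0 * v ^ 2, by linear_combination (-1 : O) * hc⟩)).resolve_right
      fun h' => htv ((inferInstance : (Ideal.span {v}).IsPrime).mem_of_pow_mem 3 h'))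
  have hu1 : IsUnit (1 - (c0 * v ^ 2 + c1 * t ^ 2)) := by
    refine (isUnit_or_isUnit_one_sub_self _).resolve_left fun hu => ?_
    exact (maximalIdeal.isMaximal O).ne_top (Ideal.eq_top_of_isUnit_mem _ (add_mem
      (Ideal.mul_mem_left _ _ (Ideal.pow_mem_of_mem _ hvm 2 two_pos))
      (Ideal.mul_mem_left _ _ (Ideal.pow_mem_of_mem _ htm 2 two_pos))) hu)
  refine ⟨v, t, hvt, hu1.mul_left_eq_zero.1 ?_, h.length⟩
  rw [← hc0, ← hc1] at hc
  linear_combination (-1 : O) * hc

end node

section flat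

variable {R S : Type u} [CommRing R] [CommRing S] [Algebra R S] [IsLocalRing S]

/-- A local algebra which is, modulo the powers of a maximal ideal of the base, the base itself
is flat and unramified. -/
theorem flat_and_unramified [IsNoetherianRing R] [IsNoetherianRing S] [Algebra.EssFiniteType R S]
    (I : Ideal R) (hI : I.map (algebraMap R S) = maximalIdeal S)
    (hres : ∀ s : S, ∃ r : R, s - algebraMap R S r ∈ maximalIdeal S)
    (hker : ∀ n r, algebraMap R S r ∈ maximalIdeal S ^ n → r ∈ I ^ n) :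
    Module.Flat R S ∧ Algebra.FormallyUnramified R S := by
  have hIn : ∀ n, (I ^ n).map (algebraMap R S) = maximalIdeal S ^ n := fun n => by
    rw [Ideal.map_pow, hI]
  have hsurj : ∀ n (s : S), ∃ r : R, s - algebraMap R S r ∈ maximalIdeal S ^ n := fun n => by
    induction n with
    | zero => exact fun s => ⟨0, by simp⟩
    | succ n ih =>
      intro s
      obtain ⟨r, hr⟩ := ih s
      suffices H : ∀ z ∈ maximalIdeal S ^ n, ∃ r : R, z - algebraMap R S r ∈ maximalIdeal S ^ (n + 1) by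
        obtain ⟨r', hr'⟩ := H _ hr
        exact ⟨r + r', by rwa [map_add, ← sub_sub]⟩
      intro z hz
      rw [← hIn] at hz
      induction hz using Submodule.span_induction with
      | mem a ha =>
        obtain ⟨a, ha, rfl⟩ := ha
        exact ⟨a, by simp⟩
      | zero => exact ⟨0, by simp⟩
      | add a b _ _ ha hb =>
        obtain ⟨ra, ha⟩ := ha
        obtain ⟨rb, hb⟩ := hb
        exact ⟨ra + rb, by rw [map_add, add_sub_add_comm]; exact add_mem ha hb⟩
      | smul c a ha' ha =>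
        obtain ⟨ra, ha⟩ := ha
        obtain ⟨rc, hc⟩ := hres c
        refine ⟨rc * ra, ?_⟩
        have ha'' : a ∈ maximalIdeal S ^ n := hIn n ▸ ha'
        rw [smul_eq_mul, map_mul, show c * a - algebraMap R S rc * algebraMap R S ra =
          (c - algebraMap R S rc) * a + algebraMap R S rc * (a - algebraMap R S ra) by ring]
        exact add_mem (by rw [pow_succ']; exact Ideal.mul_mem_mul hc ha'') (Ideal.mul_mem_left _ _ ha)
  constructor
  · refine LocalFlat.Criterion.flat_of_forall_pow S I (M := S)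
      (hI.le.trans (maximalIdeal_le_jacobson _)) fun n p => ?_
    have hmk : ∀ (i : R) (q : p), i ∈ I ^ n → i • q = 0 := fun i q hi => Subtype.ext (by
      obtain ⟨q', hq'⟩ := Ideal.Quotient.mk_surjective q.1
      show i • q.1 = 0
      rw [← hq', Algebra.smul_def, Ideal.Quotient.algebraMap_eq, ← map_mul,
        Ideal.Quotient.eq_zero_iff_mem]
      exact Ideal.mul_mem_right _ _ hi)
    have hz0 : ∀ s ∈ maximalIdeal S ^ n, ∀ q : p, s ⊗ₜ[R] q = (0 : S ⊗[R] p) := by
      intro s hs
      rw [← hIn] at hs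
      induction hs using Submodule.span_induction with
      | mem a ha =>
        obtain ⟨a, ha, rfl⟩ := ha
        intro q
        rw [Algebra.algebraMap_eq_smul_one, TensorProduct.smul_tmul, hmk a q ha, TensorProduct.tmul_zero]
      | zero => exact fun q => TensorProduct.zero_tmul _ _
      | add a b _ _ ha hb => intro q; rw [TensorProduct.add_tmul, ha, hb, add_zero]
      | smul c a _ ha =>
        intro q
        rw [show (c • a) ⊗ₜ[R] q = c • (a ⊗ₜ[R] q) from rfl, ha, smul_zero]
    have hone : ∀ z : S ⊗[R] p, ∃ q : p, z = (1 : S) ⊗ₜ[R] q := by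
      intro z
      induction z using TensorProduct.induction_on with
      | zero => exact ⟨0, by simp⟩
      | tmul s q =>
        obtain ⟨r, hr⟩ := hsurj n s
        refine ⟨r • q, ?_⟩
        rw [show s ⊗ₜ[R] q = (s - algebraMap R S r) ⊗ₜ[R] q + algebraMap R S r ⊗ₜ[R] q by
          rw [← TensorProduct.add_tmul, sub_add_cancel], hz0 _ hr, zero_add,
          Algebra.algebraMap_eq_smul_one, TensorProduct.smul_tmul]
      | add a b ha hb =>
        obtain ⟨qa, rfl⟩ := ha
        obtain ⟨qb, rfl⟩ := hb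
        exact ⟨qa + qb, (TensorProduct.tmul_add _ _ _).symm⟩
    let ψ : S ⊗[R] (R ⧸ I ^ n) →ₗ[R] S ⧸ maximalIdeal S ^ n :=
      (Algebra.TensorProduct.productMap (Ideal.Quotient.mkₐ R (maximalIdeal S ^ n))
        (Ideal.quotientMapₐ (maximalIdeal S ^ n) (Algebra.ofId R S)
          (Ideal.map_le_iff_le_comap.1 (hIn n).le))).toLinearMap
    rw [injective_iff_map_eq_zero]
    intro z hz
    obtain ⟨q, rfl⟩ := hone z
    obtain ⟨q', hq'⟩ := Ideal.Quotient.mk_surjective q.1
    have h1 : ψ ((1 : S) ⊗ₜ[R] q.1) = 0 := by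
      rw [show (1 : S) ⊗ₜ[R] q.1 = p.subtype.lTensor S ((1 : S) ⊗ₜ[R] q) from rfl, hz, map_zero]
    rw [← hq'] at h1
    simp only [ψ, AlgHom.toLinearMap_apply, Algebra.TensorProduct.productMap_apply_tmul, map_one,
      one_mul] at h1
    replace h1 : algebraMap R S q' ∈ maximalIdeal S ^ n := Ideal.Quotient.eq_zero_iff_mem.1 h1
    have : q = 0 := Subtype.ext (by
      rw [← hq', Ideal.Quotient.eq_zero_iff_mem.2 (hker n _ h1)]; rfl)
    rw [this, TensorProduct.tmul_zero]
  · rw [Algebra.formallyUnramified_iff]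
    have hD : ∀ s : S, KaehlerDifferential.D R S s ∈
        maximalIdeal S • (⊤ : Submodule S Ω[S⁄R]) := by
      intro s
      obtain ⟨r, hr⟩ := hres s
      rw [show s = algebraMap R S r + (s - algebraMap R S r) by ring, map_add,
        Derivation.map_algebraMap, zero_add]
      generalize s - algebraMap R S r = z at hr
      rw [← hI] at hr
      induction hr using Submodule.span_induction with
      | mem a ha =>
        obtain ⟨a, _, rfl⟩ := ha
        rw [Derivation.map_algebraMap]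
        exact zero_mem _
      | zero => rw [map_zero]; exact zero_mem _
      | add a b _ _ ha hb => rw [map_add]; exact add_mem ha hb
      | smul c a ha' ha =>
        rw [smul_eq_mul, Derivation.leibniz]
        exact add_mem (Submodule.smul_mem _ _ ha) (Submodule.smul_mem_smul (hI.le ha') trivial)
    have htop : (⊤ : Submodule S Ω[S⁄R]) ≤ maximalIdeal S • ⊤ := by
      rw [← KaehlerDifferential.span_range_derivation, Submodule.span_le]
      rintro _ ⟨s, rfl⟩
      rw [KaehlerDifferential.span_range_derivation]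
      exact hD s
    have := Submodule.eq_bot_of_le_smul_of_le_jacobson_bot (maximalIdeal S) ⊤
      Module.Finite.fg_top htop (maximalIdeal_le_jacobson _)
    exact subsingleton_of_forall_eq 0 fun z => (Submodule.mem_bot S).1 (this ▸ Submodule.mem_top)

end flat

end Groth.Agent.Lib.SSComp98.Algebra
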