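import Groth.Prelude.Def_SSMod
import Groth.Agent.Lib.SSComp98.Algebra
import Groth.Agent.H25.Node.Scheme
import Groth.Agent.H25.Node.SingFamily
import Groth.Agent.H25.Node.Dim

/-!
# Points of a nodal curve over a field
-/

set_option autoImplicit false
universe u

open CategoryTheory CategoryTheory.Limits AlgebraicGeometry IsLocalRing
open Groth.Agent.H25 Groth.Agent.H25.Node

attribute [local instance] Curv2.stalkAlgebra

namespace Groth.Agent.Lib.SSComp98.Points

theorem surjective_residue_of_isSeparable (k A : Type u) [Field k] [IsSepClosed k] [CommRing A]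
    [IsLocalRing A] [Algebra k A] [Algebra.IsSeparable k (ResidueField A)] :
    Function.Surjective ((residue A).comp (algebraMap k A)) :=
  IsSepClosed.algebraMap_surjective k (ResidueField A)

theorem ringKrullDim_stalk_le {X : Scheme.{u}} (x : X) :
    ringKrullDim (X.presheaf.stalk x) ≤ topologicalKrullDim X := by
  rw [← PrimeSpectrum.topologicalKrullDim_eq_ringKrullDim]
  exact (X.fromSpecStalk x).isEmbedding.isInducing.topologicalKrullDim_le

theorem exists_generator {A : Type u} [CommRing A] [IsRegularLocalRing A] (h : ringKrullDim A ≤ 1) :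
    ∃ s : A, maximalIdeal A = Ideal.span {s} := by
  have hfg : (maximalIdeal A).FG := IsNoetherian.noetherian _
  have h1 : (maximalIdeal A).spanFinrank ≤ 1 := by
    have := IsRegularLocalRing.spanFinrank_maximalIdeal (R := A)
    rw [← this] at h
    exact_mod_cast h
  rw [← Submodule.FG.generators_ncard hfg,
    Set.ncard_le_one_iff_eq (Submodule.FG.finite_generators hfg)] at h1
  have hs := Submodule.span_generators (maximalIdeal A)
  rcases h1 with e | ⟨s, e⟩
  · refine ⟨0, ?_⟩
    rw [← hs, e, Submodule.span_empty, Ideal.span_singleton_eq_bot.2 rfl]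
  · exact ⟨s, by rw [← hs, e]⟩

variable {k : Type u} [Field k] {C : Scheme.{u}} (φ : C ⟶ Spec (CommRingCat.of k))

/-- A closed point of a pure curve is not the generic point of a component. -/
theorem ne_maximal_of_mem_minimalPrimes
    (hdim : ∀ Z ∈ irreducibleComponents (C : Type u), topologicalKrullDim Z = 1) (x : C)
    (hx : IsClosed ({x} : Set C)) {P : Ideal (C.presheaf.stalk x)}
    (hP : P ∈ minimalPrimes (C.presheaf.stalk x)) : P ≠ maximalIdeal (C.presheaf.stalk x) := by
  rintro rfl
  obtain ⟨z, hz, hne⟩ := Dim.exists_generization hdim x hx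
  obtain ⟨q, rfl⟩ : z ∈ Set.range (C.fromSpecStalk x) := by
    rw [Scheme.range_fromSpecStalk]; exact hz
  refine hne ?_
  rw [show q = closedPoint _ from PrimeSpectrum.ext (le_antisymm (le_maximalIdeal q.2.ne_top)
    (hP.2 ⟨q.2, bot_le⟩ (le_maximalIdeal q.2.ne_top)))]
  exact Scheme.fromSpecStalk_closedPoint

/-- A minimal prime cuts out a branch with principal maximal ideal when the component is smooth. -/
theorem exists_branch [LocallyOfFiniteType φ]
    (hdim : ∀ Z ∈ irreducibleComponents (C : Type u), topologicalKrullDim Z = 1)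
    (hZ : ∀ Z ∈ irreducibleComponents (C : Type u), ∃ (W : Scheme.{u}) (e : W ⟶ C),
      IsClosedImmersion e ∧ _root_.AlgebraicGeometry.IsReduced W ∧ Set.range e.base = Z ∧ Smooth (e ≫ φ))
    (x : C) (hx : IsClosed ({x} : Set C)) {P : Ideal (C.presheaf.stalk x)}
    (hP : P ∈ minimalPrimes (C.presheaf.stalk x)) :
    P ≠ maximalIdeal (C.presheaf.stalk x) ∧
      ∃ s, P ⊔ Ideal.span {s} = maximalIdeal (C.presheaf.stalk x) := by
  have : P.IsPrime := hP.1.1
  refine ⟨ne_maximal_of_mem_minimalPrimes hdim x hx hP, ?_⟩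
  let η : C := C.fromSpecStalk x (⟨P, inferInstance⟩ : PrimeSpectrum _)
  have hηx : η ⤳ x := by
    have : η ∈ Set.range (C.fromSpecStalk x) := ⟨_, rfl⟩
    rwa [Scheme.range_fromSpecStalk] at this
  have hmax : ∀ z : C, z ⤳ η → z = η := fun z hz => by
    obtain ⟨q, rfl⟩ : z ∈ Set.range (C.fromSpecStalk x) := by
      rw [Scheme.range_fromSpecStalk]; exact hz.trans hηx
    have hq : q ⤳ (⟨P, inferInstance⟩ : PrimeSpectrum _) :=
      (C.fromSpecStalk x).isEmbedding.isInducing.specializes_iff.1 hz
    have hle := (PrimeSpectrum.le_iff_specializes q _).2 hq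
    exact congrArg _ (PrimeSpectrum.ext (le_antisymm hle (hP.2 ⟨q.2, bot_le⟩ hle)))
  have hcomp : closure ({η} : Set C) ∈ irreducibleComponents (C : Type u) := by
    refine ⟨isIrreducible_singleton.closure, fun T hT hle => ?_⟩
    have hg := hT.isGenericPoint_genericPoint_closure
    have h1 : hT.genericPoint ⤳ η := hg.specializes (subset_closure (hle (subset_closure rfl)))
    rw [← hmax _ h1]
    exact fun t ht => hg.def.symm ▸ subset_closure ht
  obtain ⟨W, e, he, -, hrange, hsm⟩ := hZ _ hcomp
  have := he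
  have := hsm
  obtain ⟨w', hw'⟩ : η ∈ Set.range e.base := hrange.ge (subset_closure rfl)
  obtain ⟨w, hw⟩ : x ∈ Set.range e.base := hrange.ge hηx.mem_closure
  subst hw
  have hww : w' ⤳ w := e.isEmbedding.isInducing.specializes_iff.1 (by rw [hw']; exact hηx)
  have hsurj : Function.Surjective (e.stalkMap w).hom := e.stalkMap_surjective w
  have hker : RingHom.ker (e.stalkMap w).hom ≤ P := by
    obtain ⟨q, hq⟩ : w' ∈ Set.range (W.fromSpecStalk w) := by
      rw [Scheme.range_fromSpecStalk]; exact hww
    have h1 : C.fromSpecStalk (e w) (Spec.map (e.stalkMap w) q) = η := by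
      rw [← Scheme.Hom.comp_apply, Scheme.SpecMap_stalkMap_fromSpecStalk, Scheme.Hom.comp_apply, hq]
      exact hw'
    have h2 := congrArg PrimeSpectrum.asIdeal ((C.fromSpecStalk (e w)).isEmbedding.injective h1)
    intro a ha
    rw [← show (Spec.map (e.stalkMap w) q).asIdeal = P from h2]
    show (e.stalkMap w).hom a ∈ q.asIdeal
    rw [RingHom.mem_ker.1 ha]
    exact zero_mem _
  have hreg : IsRegularLocalRing (W.presheaf.stalk w) := by
    have : LocallyOfFinitePresentation (e ≫ φ) := inferInstance
    exact Lib.JacCrit.OverField.isRegularLocalRing_stalk (e ≫ φ) w (by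
      rw [Scheme.Hom.smoothLocus_eq_top]; trivial)
  have hd : ringKrullDim (W.presheaf.stalk w) ≤ 1 :=
    (ringKrullDim_le_of_surjective _ hsurj).trans
      ((ringKrullDim_stalk_le (e w)).trans (AtWorst.dim_le_one C hdim))
  obtain ⟨s, hs⟩ := exists_generator hd
  obtain ⟨s, rfl⟩ := hsurj s
  refine ⟨s, le_antisymm (sup_le (le_maximalIdeal (Ideal.IsPrime.ne_top ‹_›))
    ((Ideal.span_singleton_le_iff_mem _).2 ?_)) fun a ha => ?_⟩
  · have : (e.stalkMap w).hom s ∈ maximalIdeal (W.presheaf.stalk w) :=
      hs.ge (Ideal.mem_span_singleton_self _)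
    exact fun hu => this (hu.map _)
  · have h : (e.stalkMap w).hom a ∈ maximalIdeal (W.presheaf.stalk w) := map_nonunit _ a ha
    rw [hs] at h
    obtain ⟨c, hc⟩ := Ideal.mem_span_singleton'.1 h
    obtain ⟨c, rfl⟩ := hsurj c
    rw [← sub_add_cancel a (c * s)]
    refine add_mem (Ideal.mem_sup_left (hker ?_))
      (Ideal.mem_sup_right (Ideal.mul_mem_left _ _ (Ideal.mem_span_singleton_self s)))
    rw [RingHom.mem_ker, map_sub, map_mul, hc, sub_self]

/-- The structure map of a stalk. -/
noncomputable def stalkHom (x : C) : k →+* C.presheaf.stalk x :=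
  ((Scheme.ΓSpecIso (CommRingCat.of k)).inv ≫ φ.appLE ⊤ ⊤ le_top ≫ C.presheaf.germ ⊤ x trivial).hom

/-- Closed points of a nodal family over a separably closed field. -/
theorem smooth_or_node [IsSepClosed k] [LocallyOfFinitePresentation φ] (hf : Curv2.IsNodalFamily φ)
    (x : C) (hx : IsClosed ({x} : Set C)) :
    x ∈ φ.smoothLocus ∨ IsNodal (C.presheaf.stalk x) ∧
      Function.Surjective ((residue (C.presheaf.stalk x)).comp (stalkHom φ x)) := by
  letI : C.Over (Spec (CommRingCat.of k)) := ⟨φ⟩
  let p := C ↘ Spec (CommRingCat.of k)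
  let k' : Type u := (Spec (CommRingCat.of k)).residueField (φ x)
  let F := φ.fiber (φ x)
  letI : F.Over (Spec (CommRingCat.of k')) := ⟨φ.fiberToSpecResidueField (φ x)⟩
  haveI : LocallyOfFiniteType (F ↘ Spec (CommRingCat.of k')) :=
    inferInstanceAs (LocallyOfFiniteType (pullback.snd φ ((Spec (CommRingCat.of k)).fromSpecResidueField (φ x))))
  haveI : LocallyOfFiniteType (C ↘ Spec (CommRingCat.of k)) := inferInstanceAs (LocallyOfFiniteType φ)
  haveI hιiso : IsIso (φ.fiberι (φ x)) := SingCrit.isIso_fiberι k C φ (φ x)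
  haveI : IsLocallyNoetherian C := LocallyOfFiniteType.isLocallyNoetherian φ
  haveI : IsLocallyNoetherian F := LocallyOfFiniteType.isLocallyNoetherian (F ↘ Spec (CommRingCat.of k'))
  have hclF : IsClosed ({φ.asFiber x} : Set F) := by
    have h1 : IsClosed ((φ.fiberι (φ x)).base ⁻¹' {x}) := hx.preimage (φ.fiberι (φ x)).continuous
    convert h1 using 1
    ext a
    simp only [Set.mem_singleton_iff, Set.mem_preimage]
    exact ⟨fun e => e ▸ φ.fiberι_asFiber x,
      fun e => (φ.fiberι (φ x)).isEmbedding.injective (e.trans (φ.fiberι_asFiber x).symm)⟩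
  rcases (hf.2.2 (φ x)).2 _ hclF with ⟨U, hxU, hU⟩ | hnode
  · left
    have := hU
    have hiso : IsIso ((Spec (CommRingCat.of k)).fromSpecResidueField (φ x)) := by
      haveI : IsClosedImmersion ((Spec (CommRingCat.of k)).fromSpecResidueField (φ x)) :=
        isClosed_singleton_iff_isClosedImmersion.1 (by
          rw [show ({φ x} : Set (Spec (CommRingCat.of k) :)) = Set.univ from
            Set.eq_univ_of_forall fun t => Subsingleton.elim t (φ x)]
          exact isClosed_univ)
      haveI : Surjective ((Spec (CommRingCat.of k)).fromSpecResidueField (φ x)) := ⟨fun t =>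
        ⟨IsLocalRing.closedPoint _, Subsingleton.elim _ t⟩⟩
      exact isIso_of_isClosedImmersion_of_surjective _
    have h : Smooth ((U.ι ≫ φ.fiberι (φ x)) ≫ φ) := by
      have : U.ι ≫ φ.fiberι (φ x) ≫ φ = (U.ι ≫ (F ↘ Spec (CommRingCat.of k'))) ≫
          (Spec (CommRingCat.of k)).fromSpecResidueField (φ x) := by
        rw [Category.assoc]; exact congrArg (U.ι ≫ ·) (φ.fiber_fac (φ x))
      rw [Category.assoc, this]
      infer_instance
    have h2 : (⟨φ.asFiber x, hxU⟩ : (U : Scheme.{u})) ∈ (U.ι ≫ φ.fiberι (φ x)) ⁻¹ᵁ φ.smoothLocus := by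
      rw [Scheme.Hom.preimage_smoothLocus_eq, Scheme.Hom.smoothLocus_eq_top]; trivial
    have h3 : φ.fiberι (φ x) (φ.asFiber x) ∈ φ.smoothLocus := h2
    rwa [φ.fiberι_asFiber] at h3
  · right
    obtain ⟨-, hsep, hN⟩ := (Sch.isNode_iff k' F _).1 hnode
    obtain ⟨ψ', hψ', hker, hcompat⟩ :=
      FibreStalk.exists_stalkHom φ (φ x) (φ.asFiber x) x (φ.fiberι_asFiber x) rfl
    have hinj : Function.Injective ψ' := by
      rw [injective_iff_map_eq_zero]
      intro a ha
      have h1 : a ∈ RingHom.ker ψ' := ha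
      rw [hker, (IsLocalRing.isField_iff_maximalIdeal_eq.1 (SingFamily.isField_stalk k (φ x))),
        Ideal.map_bot] at h1
      exact h1
    let E : C.presheaf.stalk x ≃+* F.presheaf.stalk (φ.asFiber x) :=
      RingEquiv.ofBijective ψ' ⟨hinj, hψ'⟩
    refine ⟨Quadratic.isNodal_of_ringEquiv E.symm hN, ?_⟩
    let ψ : k →+* k' := ((Spec (CommRingCat.of k)).residue (φ x)).hom.comp
      (((Spec (CommRingCat.of k)).presheaf.germ ⊤ (φ x) trivial).hom.comp
        (Scheme.ΓSpecIso (CommRingCat.of k)).inv.hom)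
    have hψ : ∀ c : k, Curv2.stalkMap k' F (φ.asFiber x) (ψ c) = ψ' (stalkHom φ x c) := by
      intro c
      refine (hcompat _).trans (congrArg ψ' ?_)
      rw [RingHom.comp_apply]
      erw [TopCat.Presheaf.germ_stalkSpecializes_apply]
      refine (Scheme.Hom.germ_stalkMap_apply φ ⊤ x trivial _).trans ?_
      simp [stalkHom, Scheme.Hom.appLE]
      rfl
    have hψs : Function.Surjective ψ := by
      letI := (Spec (CommRingCat.of k)).presheaf.algebra_section_stalk (U := ⊤) ⟨φ x, trivial⟩
      haveI := (isAffineOpen_top (Spec (CommRingCat.of k))).isLocalization_stalk ⟨φ x, trivial⟩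
      intro z
      obtain ⟨a, rfl⟩ := IsLocalRing.residue_surjective (R := (Spec (CommRingCat.of k)).presheaf.stalk (φ x)) z
      obtain ⟨b, rfl⟩ := (IsField.localization_map_bijective
        (M := ((isAffineOpen_top (Spec (CommRingCat.of k))).primeIdealOf ⟨φ x, trivial⟩).asIdeal.primeCompl)
        (Rₘ := (Spec (CommRingCat.of k)).presheaf.stalk (φ x))
        (fun h => h (Ideal.zero_mem _)) (Lib.JacCrit.OverField.isField_top (K := k))).2 a
      obtain ⟨c, rfl⟩ := (Scheme.ΓSpecIso (CommRingCat.of k)).commRingCatIsoToRingEquiv.symm.surjective b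
      exact ⟨c, rfl⟩
    let A := C.presheaf.stalk x
    let B := F.presheaf.stalk (φ.asFiber x)
    letI : Algebra k k' := ψ.toAlgebra
    letI : Algebra k (ResidueField B) := ((algebraMap k' (ResidueField B)).comp ψ).toAlgebra
    haveI : IsScalarTower k k' (ResidueField B) := IsScalarTower.of_algebraMap_eq fun _ => rfl
    haveI : Algebra.IsSeparable k k' := ⟨fun z => by
      obtain ⟨c, rfl⟩ := hψs z
      exact isSeparable_algebraMap c⟩
    haveI := hsep
    haveI : Algebra.IsSeparable k (ResidueField B) := Algebra.IsSeparable.trans k k' _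
    haveI : IsLocalHom ψ' := IsLocalHom.of_surjective _ hψ'
    intro z
    obtain ⟨c, hc⟩ := IsSepClosed.algebraMap_surjective k (ResidueField B) (ResidueField.map ψ' z)
    refine ⟨c, (ResidueField.map ψ').injective ?_⟩
    rw [← hc, RingHom.comp_apply, ResidueField.map_residue, ← hψ]
    rfl

end Groth.Agent.Lib.SSComp98.Points
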