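import Groth.Prelude.Def_StrictSS
import Groth.Agent.Lib.SSComp98.Algebra
import Groth.Agent.Lib.Synt92.MorOverField

/-!
# Étale charts from elements of a local ring
-/

set_option autoImplicit false
universe u

open CategoryTheory CategoryTheory.Limits AlgebraicGeometry IsLocalRing
open Groth.Agent.Lib.Synt92.MorOverField (secHom)
open Groth.Agent.H25.Node

namespace Groth.Agent.Lib.SSComp98.Chart

theorem isEtaleAt {R B S : Type u} [CommRing R] [CommRing B] [CommRing S] [Algebra R B]
    [Algebra R S] [Algebra B S] [IsScalarTower R B S] [Algebra.FinitePresentation R B]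
    (q : Ideal B) [q.IsPrime] [IsLocalization.AtPrime S q] [Module.Flat R S]
    [Algebra.FormallyUnramified R S] : Algebra.IsEtaleAt R q := by
  let e : Localization.AtPrime q ≃ₐ[R] S :=
    (IsLocalization.algEquiv q.primeCompl (Localization.AtPrime q) S).restrictScalars R
  exact (Unram.AtPrime.isEtaleAt_iff R B q).2
    ⟨Module.Flat.of_linearEquiv e.toLinearEquiv, Algebra.FormallyUnramified.of_equiv e.symm⟩

variable {k : Type u} [Field k] {C : Scheme.{u}} (φ : C ⟶ Spec (CommRingCat.of k))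

theorem isoSpec_secHom {U : C.Opens} (hU : IsAffineOpen U) :
    hU.isoSpec.hom ≫ Spec.map (CommRingCat.ofHom (secHom φ U)) = U.ι ≫ φ := by
  have h := (isAffineOpen_top (Spec (CommRingCat.of k))).SpecMap_appLE_fromSpec φ hU (i := le_top)
  rw [IsAffineOpen.fromSpec_top, Scheme.isoSpec_Spec_inv] at h
  rw [secHom, CommRingCat.ofHom_hom, Spec.map_comp, h, hU.isoSpec_hom_fromSpec_assoc]

/-- An étale chart near a point from a map on sections. -/
theorem exists_chart [LocallyOfFiniteType φ] {U : C.Opens} (hU : IsAffineOpen U) {x : C} (hx : x ∈ U)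
    (R : Type u) [CommRing R] [Algebra k R] [Algebra.FiniteType k R] (θ : R →+* Γ(C, U))
    (hθ : θ.comp (algebraMap k R) = secHom φ U) (S : Type u) [CommRing S] [Algebra Γ(C, U) S]
    [IsLocalization.AtPrime S (hU.primeIdealOf ⟨x, hx⟩).asIdeal] [Algebra R S]
    (hRS : algebraMap R S = (algebraMap Γ(C, U) S).comp θ)
    (hflat : Module.Flat R S) (hu : Algebra.FormallyUnramified R S) :
    ∃ (V : C.Opens) (_ : x ∈ V) (hVU : V ≤ U) (f : (V : Scheme.{u}) ⟶ Spec (CommRingCat.of R)),
      Etale f ∧ f ≫ Spec.map (CommRingCat.ofHom (algebraMap k R)) = V.ι ≫ φ ∧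
      f = C.homOfLE hVU ≫ hU.isoSpec.hom ≫ Spec.map (CommRingCat.ofHom θ) := by
  letI := θ.toAlgebra
  letI := (secHom φ U).toAlgebra
  have : IsScalarTower k R Γ(C, U) := IsScalarTower.of_algebraMap_eq' hθ.symm
  have : IsScalarTower R Γ(C, U) S := IsScalarTower.of_algebraMap_eq' hRS
  have : Algebra.FiniteType k Γ(C, U) := Synt92.MorOverField.finiteType_secHom φ hU
  have : IsNoetherianRing R := Algebra.FiniteType.isNoetherianRing k R
  have : Algebra.FinitePresentation R Γ(C, U) := Algebra.FinitePresentation.of_finiteType.1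
    (Algebra.FiniteType.of_restrictScalars_finiteType k R Γ(C, U))
  have := hflat
  have := hu
  have : Algebra.IsEtaleAt R (hU.primeIdealOf ⟨x, hx⟩).asIdeal := isEtaleAt (S := S) _
  obtain ⟨g, hg, hg'⟩ := Algebra.exists_etale_of_isEtaleAt (R := R) (hU.primeIdealOf ⟨x, hx⟩).asIdeal
  letI : Algebra Γ(C, U) Γ(C, C.basicOpen g) :=
    (C.presheaf.map (homOfLE (C.basicOpen_le g)).op).hom.toAlgebra
  have : IsLocalization.Away g Γ(C, C.basicOpen g) := hU.isLocalization_basicOpen g
  letI : Algebra R Γ(C, C.basicOpen g) := ((algebraMap Γ(C, U) Γ(C, C.basicOpen g)).comp θ).toAlgebra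
  have : IsScalarTower R Γ(C, U) Γ(C, C.basicOpen g) := IsScalarTower.of_algebraMap_eq' rfl
  have : Algebra.Etale R Γ(C, C.basicOpen g) := Algebra.Etale.of_equiv
    ((IsLocalization.algEquiv (Submonoid.powers g) (Localization.Away g)
      Γ(C, C.basicOpen g)).restrictScalars R)
  have hV := hU.basicOpen g
  refine ⟨C.basicOpen g, ?_, C.basicOpen_le g, _, ?_, ?_, rfl⟩
  · have h1 : hU.primeIdealOf ⟨x, hx⟩ ∈ hU.fromSpec ⁻¹ᵁ C.basicOpen g := by
      rw [hU.fromSpec_preimage_basicOpen]
      exact hg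
    change hU.fromSpec (hU.primeIdealOf ⟨x, hx⟩) ∈ C.basicOpen g at h1
    rwa [hU.fromSpec_primeIdealOf] at h1
  · have he : C.homOfLE (C.basicOpen_le g) ≫ hU.isoSpec.hom =
        hV.isoSpec.hom ≫ Spec.map (C.presheaf.map (homOfLE (C.basicOpen_le g)).op) := by
      rw [← cancel_mono hU.fromSpec, Category.assoc, Category.assoc, hU.isoSpec_hom_fromSpec,
        hU.map_fromSpec hV, hV.isoSpec_hom_fromSpec, Scheme.homOfLE_ι]
    rw [reassoc_of% he, ← Spec.map_comp]
    have : Etale (Spec.map (CommRingCat.ofHom θ ≫ C.presheaf.map (homOfLE (C.basicOpen_le g)).op)) := by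
      rw [HasRingHomProperty.Spec_iff (P := @Etale)]
      exact RingHom.etale_algebraMap.2 (inferInstanceAs (Algebra.Etale R Γ(C, C.basicOpen g)))
    infer_instance
  · rw [Category.assoc, Category.assoc, ← Spec.map_comp, ← CommRingCat.ofHom_comp, hθ,
      isoSpec_secHom φ hU, Scheme.homOfLE_ι_assoc]

end Groth.Agent.Lib.SSComp98.Chart
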