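import Groth.Agent.Lib.SSComp98.Algebra

/-!
# The local rings over the two models
-/

set_option autoImplicit false
universe u

open IsLocalRing StrictSS Groth.Agent.H25.Node
open Groth.Agent.Lib.NodeModel.Algebra (gen gen_mul)

namespace Groth.Agent.Lib.SSComp98.Models

variable {k : Type u} [Field k] {S : Type u} [CommRing S] [IsLocalRing S] [IsNoetherianRing S]
  [Algebra k S] [Algebra.EssFiniteType k S]

theorem node [Algebra (NodeAlg k 0) S] [IsScalarTower k (NodeAlg k 0) S] {s t : S}
    (h : Branches.IsSplit s t) (hs : algebraMap (NodeAlg k 0) S (gen (0 : k) 0) = s)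
    (ht : algebraMap (NodeAlg k 0) S (gen (0 : k) 1) = t)
    (hres : Function.Surjective ((residue S).comp (algebraMap k S))) :
    Module.Flat (NodeAlg k 0) S ∧ Algebra.FormallyUnramified (NodeAlg k 0) S := by
  have : IsNoetherianRing (NodeAlg k 0) := inferInstance
  have : Algebra.EssFiniteType (NodeAlg k 0) S := Algebra.EssFiniteType.of_comp k _ S
  let I : Ideal (NodeAlg k 0) := Ideal.span {gen (0 : k) 0, gen (0 : k) 1}
  have hI : I.IsMaximal := NodeModel.Field.span_isMaximal
  have hIm : I.map (algebraMap (NodeAlg k 0) S) = maximalIdeal S := by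
    rw [Ideal.map_span, Set.image_pair, hs, ht, h.span]
  have hIc : (maximalIdeal S).comap (algebraMap (NodeAlg k 0) S) = I :=
    (hI.eq_of_le (Ideal.comap_ne_top _ (maximalIdeal.isMaximal S).ne_top)
      (Ideal.map_le_iff_le_comap.1 hIm.le)).symm
  refine SSComp98.Algebra.flat_and_unramified I hIm (fun z => ?_) fun n => ?_
  · obtain ⟨c, hc⟩ := hres (residue S z)
    refine ⟨algebraMap k _ c, ?_⟩
    rw [← residue_eq_zero_iff, map_sub, sub_eq_zero, ← hc,
      ← IsScalarTower.algebraMap_apply k (NodeAlg k 0) S]
    rfl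
  have hpow : ∀ n, I ^ (n + 1) ≤ Ideal.span {gen (0 : k) 0 ^ (n + 1), gen (0 : k) 1 ^ (n + 1)} := by
    intro n
    induction n with
    | zero =>
      rw [zero_add, pow_one, pow_one]
      exact (Submodule.pow_one I).le
    | succ n ih =>
      rw [pow_succ]
      refine (Ideal.mul_mono_left ih).trans ?_
      have h0 : gen (0 : k) 0 * gen (0 : k) 1 = (0 : NodeAlg k 0) := by rw [gen_mul, map_zero]
      rw [Ideal.span_mul_span', Ideal.span_le]
      rintro _ ⟨a, ha, b, hb, rfl⟩
      rcases ha with rfl | rfl <;> rcases hb with rfl | rfl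
      · exact Ideal.subset_span (Or.inl (by simp [pow_succ]))
      · simp only [pow_succ, mul_assoc, h0, mul_zero, SetLike.mem_coe, zero_mem]
      · simp only [pow_succ, mul_assoc, mul_comm (gen (0 : k) 1) (gen (0 : k) 0), h0, mul_zero,
          SetLike.mem_coe, zero_mem]
      · exact Ideal.subset_span (Or.inr (by simp [pow_succ]))
  induction n with
  | zero => intro r _; simp
  | succ n ih =>
    intro r hr
    cases n with
    | zero =>
      rw [zero_add, pow_one] at hr ⊢
      exact hIc.le hr
    | succ n =>
      obtain ⟨α, β, rfl⟩ := Ideal.mem_span_pair.1 (hpow n (ih r (Ideal.pow_le_pow_right (Nat.le_succ _) hr)))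
      rw [map_add, map_mul, map_mul, map_pow, map_pow, hs, ht] at hr
      have key : ∀ {a b : S} {γ δ : NodeAlg k 0}, Branches.IsSplit a b →
          algebraMap _ S γ * a ^ (n + 1) + algebraMap _ S δ * b ^ (n + 1) ∈ maximalIdeal S ^ (n + 1 + 1) →
          γ ∈ I := by
        intro a b γ δ hab hm
        by_contra hγ
        have hu : IsUnit (algebraMap _ S γ) := by
          by_contra hu
          exact hγ (hIc.le hu)
        refine hab.pow_not_mem (n + 1) ((Ideal.unit_mul_mem_iff_mem _ hu).1 ?_)
        have := Ideal.mul_mem_mul hm hab.left_mem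
        rw [← pow_succ, add_mul, mul_assoc, mul_assoc, ← pow_succ a, pow_succ b, mul_assoc (b ^ n),
          mul_comm b a, hab.mul, mul_zero, mul_zero, add_zero] at this
        exact this
      have hα := key h hr
      have hr' := (add_comm (algebraMap (NodeAlg k 0) S α * s ^ (n + 1)) (algebraMap (NodeAlg k 0) S β * t ^ (n + 1))) ▸ hr
      have hβ : β ∈ I := key (δ := α) h.symm hr'
      rw [pow_succ' I]
      exact add_mem (Ideal.mul_mem_mul hα (Ideal.pow_mem_pow (Ideal.subset_span (by simp)) _))
        (Ideal.mul_mem_mul hβ (Ideal.pow_mem_pow (Ideal.subset_span (by simp)) _))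

theorem line [Algebra (Polynomial k) S] [IsScalarTower k (Polynomial k) S] {t : S}
    (ht : algebraMap (Polynomial k) S Polynomial.X = t) (hm : Ideal.span {t} = maximalIdeal S)
    (hnil : ¬ IsNilpotent t)
    (hres : Function.Surjective ((residue S).comp (algebraMap k S))) :
    Module.Flat (Polynomial k) S ∧ Algebra.FormallyUnramified (Polynomial k) S := by
  have : Algebra.EssFiniteType (Polynomial k) S := Algebra.EssFiniteType.of_comp k _ S
  let I : Ideal (Polynomial k) := Ideal.span {Polynomial.X}
  have hI : I.IsMaximal :=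
    PrincipalIdealRing.isMaximal_of_irreducible Polynomial.irreducible_X
  have hIm : I.map (algebraMap (Polynomial k) S) = maximalIdeal S := by
    rw [Ideal.map_span, Set.image_singleton, ht, hm]
  have hIc : (maximalIdeal S).comap (algebraMap (Polynomial k) S) = I :=
    (hI.eq_of_le (Ideal.comap_ne_top _ (maximalIdeal.isMaximal S).ne_top)
      (Ideal.map_le_iff_le_comap.1 hIm.le)).symm
  refine SSComp98.Algebra.flat_and_unramified I hIm (fun z => ?_) fun n => ?_
  · obtain ⟨c, hc⟩ := hres (residue S z)
    refine ⟨algebraMap k _ c, ?_⟩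
    rw [← residue_eq_zero_iff, map_sub, sub_eq_zero, ← hc,
      ← IsScalarTower.algebraMap_apply k (Polynomial k) S]
    rfl
  induction n with
  | zero => intro r _; simp
  | succ n ih =>
    intro r hr
    have h1 := ih r (Ideal.pow_le_pow_right (Nat.le_succ _) hr)
    rw [Ideal.span_singleton_pow] at h1
    obtain ⟨α, rfl⟩ := Ideal.mem_span_singleton'.1 h1
    rw [map_mul, map_pow, ht] at hr
    have hα : α ∈ I := by
      by_contra hα
      have hu : IsUnit (algebraMap _ S α) := by
        by_contra hu
        exact hα (hIc.le hu)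
      have h2 := (Ideal.unit_mul_mem_iff_mem _ hu).1 hr
      rw [← hm, Ideal.span_singleton_pow] at h2
      obtain ⟨c, hc⟩ := Ideal.mem_span_singleton'.1 h2
      have htm : t ∈ maximalIdeal S := hm ▸ Ideal.mem_span_singleton_self t
      have hu1 : IsUnit (1 - c * t) := (isUnit_or_isUnit_one_sub_self _).resolve_left fun hu =>
        (maximalIdeal.isMaximal S).ne_top (Ideal.eq_top_of_isUnit_mem _ (Ideal.mul_mem_left _ c htm) hu)
      exact hnil ⟨n, hu1.mul_left_eq_zero.1 (by linear_combination (-1 : S) * hc)⟩
    rw [pow_succ' I]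
    exact Ideal.mul_mem_mul hα (Ideal.pow_mem_pow (Ideal.mem_span_singleton_self _) _)

end Groth.Agent.Lib.SSComp98.Models
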